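import Groth.Agent.ThickFPLib.Main

/-!
# Descent of finite presentation along a thickening, for flat sheaves of modules
-/

set_option autoImplicit false
set_option backward.isDefEq.respectTransparency false
set_option backward.isDefEq.respectTransparency.types false
set_option linter.style.haveILetI false

universe u

open CategoryTheory CategoryTheory.Limits AlgebraicGeometry TopologicalSpace Opposite
open Groth.Agent.PullbackMod Groth.Agent.DCohLib Groth.Agent.QCohLib Groth.Agent.FlatLocus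

noncomputable section

namespace Groth.Agent.ThickFPLib

variable {X X' : Scheme.{u}}

/-- Finitely many germs at a point extend to a common open. -/
theorem exists_common_germ (x : X) {n : ℕ}
    (a : Fin n → X.presheaf.stalk x) :
    ∃ (W : X.Opens) (hx : x ∈ W) (s : Fin n → Γ(X, W)), ∀ l, X.presheaf.germ W x hx (s l) = a l := by
  classical
  choose W hW s hs using fun l => TopCat.Presheaf.exists_germ_eq X.presheaf (a l)
  obtain ⟨W₀, hx₀, hle⟩ : ∃ (W₀ : X.Opens) (_ : x ∈ W₀), ∀ l, W₀ ≤ W l := by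
    refine ⟨Finset.univ.inf W, ?_, fun l => Finset.inf_le (Finset.mem_univ l)⟩
    show x ∈ ((Finset.univ.inf W : X.Opens) : Set X)
    rw [TopologicalSpace.Opens.coe_finset_inf]
    simpa using fun l => hW l
  exact ⟨W₀, hx₀, fun l => X.presheaf.map (homOfLE (hle l)).op (s l), fun l =>
    (X.presheaf.germ_res_apply _ _ _ _).trans (hs l)⟩

theorem exists_common_germ_mod (M : X.Modules) (x : X) {n : ℕ} (a : Fin n → M.presheaf.stalk x) :
    ∃ (W : X.Opens) (hx : x ∈ W) (s : Fin n → Γ(M, W)), ∀ l, M.presheaf.germ W x hx (s l) = a l := by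
  classical
  choose W hW s hs using fun l => TopCat.Presheaf.exists_germ_eq M.presheaf (a l)
  obtain ⟨W₀, hx₀, hle⟩ : ∃ (W₀ : X.Opens) (_ : x ∈ W₀), ∀ l, W₀ ≤ W l := by
    refine ⟨Finset.univ.inf W, ?_, fun l => Finset.inf_le (Finset.mem_univ l)⟩
    show x ∈ ((Finset.univ.inf W : X.Opens) : Set X)
    rw [TopologicalSpace.Opens.coe_finset_inf]
    simpa using fun l => hW l
  exact ⟨W₀, hx₀, fun l => M.presheaf.map (homOfLE (hle l)).op (s l), fun l =>
    (M.presheaf.germ_res_apply _ _ _ _).trans (hs l)⟩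

/-- Sections with equal germs at a point have equal germs nearby. -/
theorem exists_nhd_germ_eq (M : X.Modules) {U V : X.Opens} {x : X} (hU : x ∈ U) (hV : x ∈ V) (s : Γ(M, U)) (t : Γ(M, V))
    (h : M.presheaf.germ U x hU s = M.presheaf.germ V x hV t) :
    ∃ W : X.Opens, x ∈ W ∧ ∀ (y : X) (_ : y ∈ W), ∀ (h1 : y ∈ U) (h2 : y ∈ V),
      M.presheaf.germ U y h1 s = M.presheaf.germ V y h2 t := by
  obtain ⟨W, hW, iU, iV, e⟩ := TopCat.Presheaf.germ_eq M.presheaf x hU hV s t h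
  refine ⟨W, hW, fun y hy h1 h2 => ?_⟩
  rw [← TopCat.Presheaf.germ_res_apply M.presheaf iU y hy, ← TopCat.Presheaf.germ_res_apply M.presheaf iV y hy, e]

theorem exists_nhd_germ_eq' {U V : X.Opens} {x : X} (hU : x ∈ U) (hV : x ∈ V) (s : Γ(X, U)) (t : Γ(X, V))
    (h : X.presheaf.germ U x hU s = X.presheaf.germ V x hV t) :
    ∃ W : X.Opens, x ∈ W ∧ ∀ (y : X) (_ : y ∈ W), ∀ (h1 : y ∈ U) (h2 : y ∈ V),
      X.presheaf.germ U y h1 s = X.presheaf.germ V y h2 t := by
  obtain ⟨W, hW, iU, iV, e⟩ := TopCat.Presheaf.germ_eq X.presheaf x hU hV s t h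
  refine ⟨W, hW, fun y hy h1 h2 => ?_⟩
  rw [← TopCat.Presheaf.germ_res_apply X.presheaf iU y hy, ← TopCat.Presheaf.germ_res_apply X.presheaf iV y hy, e]

/-- An open of a thickening comes from an open of the thickened scheme. -/
theorem exists_open_preimage (i : X ⟶ X') [IsClosedImmersion i] (O : X.Opens) :
    ∃ O' : X'.Opens, i ⁻¹ᵁ O' = O := by
  obtain ⟨s, hs, e⟩ := i.isEmbedding.isInducing.isOpen_iff.1 O.2
  exact ⟨⟨s, hs⟩, TopologicalSpace.Opens.ext e⟩

theorem main {T T' : Scheme.{u}} (i : X ⟶ X') (q : X ⟶ T) (q' : X' ⟶ T') (t : T ⟶ T')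
    (hsq : IsPullback i q q' t) (ht : MoreMor.IsFiniteOrderThickening t) (F : X'.Modules)
    (hF : FlatMod.IsFlatOver q' F) (hG : CohB1.IsFP ((Scheme.Modules.pullback i).obj F)) : CohB1.IsFP F := by
  classical
  haveI : IsClosedImmersion t := ht.1.1
  haveI : IsClosedImmersion i := MorphismProperty.of_isPullback hsq.flip ‹IsClosedImmersion t›
  haveI : Surjective t := ht.1.2
  haveI : Surjective i := MorphismProperty.of_isPullback hsq.flip ‹Surjective t›
  let G := (Scheme.Modules.pullback i).obj F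
  let p : ∀ y : X, F.presheaf.stalk (i y) →+ G.presheaf.stalk y := fun y => pullStalk i F y
  let J : ∀ y : X, Ideal (X'.presheaf.stalk (i y)) := fun y => RingHom.ker (i.stalkMap y).hom
  have hp : ∀ y, Function.Surjective (p y) ∧
      ∀ v, p y v = 0 ↔ v ∈ (J y • ⊤ : Submodule (X'.presheaf.stalk (i y)) (F.presheaf.stalk (i y))) := fun y => by
    letI : Algebra (X'.presheaf.stalk (i y)) (X.presheaf.stalk y) := (i.stalkMap y).hom.toAlgebra
    letI := Module.compHom (G.presheaf.stalk y) (i.stalkMap y).hom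
    haveI : IsScalarTower (X'.presheaf.stalk (i y)) (X.presheaf.stalk y) (G.presheaf.stalk y) :=
      .of_algebraMap_smul fun _ _ => rfl
    obtain ⟨h1, h2⟩ := ker_of_isBaseChange (A := X'.presheaf.stalk (i y)) (B := X.presheaf.stalk y)
      (i.stalkMap_surjective y) (isBaseChange_pullStalkL' i F y)
    exact ⟨h1, fun v => by rw [← show _ = (J y • ⊤ : Submodule _ (F.presheaf.stalk (i y))) from h2]; rfl⟩
  have hpL : ∀ (y : X) {W : X'.Opens} {n : ℕ} (m : Fin n → Γ(F, W)) (hy : i y ∈ W) (v : Fin n → X'.presheaf.stalk (i y)),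
      p y (gL F m (i y) hy v) = ∑ l, i.stalkMap y (v l) • p y (F.presheaf.germ W (i y) hy (m l)) :=
    fun y W n m hy v => by
      rw [Fintype.linearCombination_apply, map_sum]
      exact Finset.sum_congr rfl fun l _ => pullStalk_smul i F y _ _
  have hnil : ∀ y : X, ∃ I : Ideal (T'.presheaf.stalk (q' (i y))),
      IsNilpotent (I.map (q'.stalkMap (i y)).hom) ∧ J y = I.map (q'.stalkMap (i y)).hom := fun y => by
    obtain ⟨φ, -, hn, -, hker⟩ := PCThick.exists_stalk_square hsq ht y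
    refine ⟨RingHom.ker φ, ?_, hker⟩
    obtain ⟨N, hN⟩ := hn
    exact ⟨N, by rw [← Ideal.map_pow, hN, Ideal.zero_eq_bot, Ideal.map_bot, Ideal.zero_eq_bot]⟩
  refine isFP_of_local fun x' => ?_
  obtain ⟨z, rfl⟩ := i.surjective x'
  obtain ⟨V, hzV, n, k, g, c, hV⟩ := exists_presentation G hG z
  -- generators
  choose μ hμ using fun l => (hp z).1 (G.presheaf.germ V z hzV (g l))
  obtain ⟨W₁, hz₁, m, hm⟩ := exists_common_germ_mod F (i z) μ
  have hgen : ∀ l, ∃ O : X.Opens, z ∈ O ∧ ∀ (y : X) (_ : y ∈ O), ∀ (h1 : i y ∈ W₁) (h2 : y ∈ V),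
      p y (F.presheaf.germ W₁ (i y) h1 (m l)) = G.presheaf.germ V y h2 (g l) := fun l => by
    have h0 : p z (F.presheaf.germ W₁ (i z) hz₁ (m l)) = G.presheaf.germ V z hzV (g l) := by rw [hm, hμ]
    have h0' := (pullStalk_germ i F z hz₁ (m l)).symm.trans h0
    obtain ⟨O, hzO, hO⟩ := exists_nhd_germ_eq G (U := i ⁻¹ᵁ W₁) hz₁ hzV _ _ h0'
    exact ⟨O, hzO, fun y hy h1 h2 => (pullStalk_germ i F y h1 (m l)).trans (hO y hy h1 h2)⟩
  choose O₁ hzO₁ hO₁ using hgen
  obtain ⟨I, hIn, hJz⟩ := hnil z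
  have hLz : Function.Surjective (gL F m (i z) hz₁) := by
    refine surjective_of_surjective_mod (hJz ▸ hIn : IsNilpotent (J z)) _ fun v => ?_
    obtain ⟨r, hr⟩ := (hV z hzV).1 (p z v)
    choose r' hr' using fun l => i.stalkMap_surjective z (r l)
    refine ⟨r', ((hp z).2 _).1 ?_⟩
    rw [map_sub, hpL, sub_eq_zero, ← hr, Fintype.linearCombination_apply]
    exact Finset.sum_congr rfl fun l _ => by rw [hr', hO₁ l z (hzO₁ l) hz₁ hzV]
  -- relations
  have hrel : ∀ j, ∃ (W : X'.Opens) (_ : W ≤ W₁) (_ : i z ∈ W) (a : Fin n → Γ(X', W)) (O : X.Opens), z ∈ O ∧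
      (∀ (y : X') (hy : y ∈ W) (hy₁ : y ∈ W₁), gL F m y hy₁ (gV a y hy) = 0) ∧
      ∀ (y : X) (_ : y ∈ O), ∀ (h1 : i y ∈ W) (h2 : y ∈ V) (l : Fin n),
        i.stalkMap y (gV a (i y) h1 l) = gV (c j) y h2 l := fun j => by
    choose c' hc' using fun l => i.stalkMap_surjective z (gV (c j) z hzV l)
    have hv : gL F m (i z) hz₁ c' ∈ (J z • ⊤ : Submodule (X'.presheaf.stalk (i z)) (F.presheaf.stalk (i z))) := by
      refine ((hp z).2 _).1 ?_
      rw [hpL]
      have h0 : gL G g z hzV (gV (c j) z hzV) = 0 :=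
        LinearMap.mem_ker.1 ((hV z hzV).2.ge (Submodule.subset_span ⟨j, rfl⟩))
      rw [Fintype.linearCombination_apply] at h0
      exact (Finset.sum_congr rfl fun l _ => by rw [hc', hO₁ l z (hzO₁ l) hz₁ hzV]).trans h0
    have hmap : (J z • ⊤ : Submodule (X'.presheaf.stalk (i z)) (F.presheaf.stalk (i z))) =
        (J z • ⊤ : Submodule (X'.presheaf.stalk (i z)) (Fin n → X'.presheaf.stalk (i z))).map (gL F m (i z) hz₁) := by
      rw [Submodule.map_smul'', Submodule.map_top, LinearMap.range_eq_top.2 hLz]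
    rw [hmap] at hv
    obtain ⟨τ, hτ, hτ'⟩ := hv
    have hτl : ∀ l, i.stalkMap z (τ l) = 0 := fun l => by
      have h1 : LinearMap.proj l τ ∈ (J z • ⊤ : Submodule (X'.presheaf.stalk (i z))
          (Fin n → X'.presheaf.stalk (i z))).map (LinearMap.proj l) := ⟨τ, hτ, rfl⟩
      rw [Submodule.map_smul''] at h1
      have h2 := Submodule.smul_mono (le_refl (J z)) (le_top (a := (⊤ : Submodule (X'.presheaf.stalk (i z))
          (Fin n → X'.presheaf.stalk (i z))).map (LinearMap.proj l))) h1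
      rw [Ideal.smul_top_eq_map, Algebra.algebraMap_self, Ideal.map_id] at h2
      exact h2
    obtain ⟨W₂, hz₂, a₀, ha₀⟩ := exists_common_germ (i z) (fun l => c' l - τ l)
    let W₃ := W₂ ⊓ W₁
    let a : Fin n → Γ(X', W₃) := fun l => X'.presheaf.map (homOfLE (inf_le_left : W₃ ≤ W₂)).op (a₀ l)
    let s : Γ(F, W₃) := ∑ l, a l • F.presheaf.map (homOfLE (inf_le_right : W₃ ≤ W₁)).op (m l)
    have hs : ∀ (y : X') (hy : y ∈ W₃), F.presheaf.germ W₃ y hy s = gL F m y hy.2 (gV a y hy) := fun y hy => by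
      rw [← gL_gV, Fintype.linearCombination_apply, Fintype.linearCombination_apply]
      exact Finset.sum_congr rfl fun l _ => by rw [TopCat.Presheaf.germ_res_apply]
    have ha : gV a (i z) ⟨hz₂, hz₁⟩ = fun l => c' l - τ l := funext fun l => by
      show X'.presheaf.germ W₃ (i z) _ (X'.presheaf.map _ (a₀ l)) = _
      rw [TopCat.Presheaf.germ_res_apply, ha₀]
    have hs0 : F.presheaf.germ W₃ (i z) ⟨hz₂, hz₁⟩ s = F.presheaf.germ W₃ (i z) ⟨hz₂, hz₁⟩ 0 := by
      rw [hs, ha, map_zero]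
      have : (fun l => c' l - τ l) = c' - τ := rfl
      rw [this, map_sub, hτ', sub_self]
    obtain ⟨W₄, hz₄, hW₄⟩ := exists_nhd_germ_eq F (U := W₃) (V := W₃) ⟨hz₂, hz₁⟩ ⟨hz₂, hz₁⟩ s 0 hs0
    have hcl : ∀ l, ∃ O : X.Opens, z ∈ O ∧ ∀ (y : X) (_ : y ∈ O), ∀ (h1 : i y ∈ W₃) (h2 : y ∈ V),
        i.stalkMap y (gV a (i y) h1 l) = gV (c j) y h2 l := fun l => by
      have h0 : i.stalkMap z (gV a (i z) ⟨hz₂, hz₁⟩ l) = gV (c j) z hzV l := by
        rw [ha, map_sub, hτl, sub_zero, hc']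
      have h0' : X.presheaf.germ (i ⁻¹ᵁ W₃) z ⟨hz₂, hz₁⟩ (i.app W₃ (a l)) = X.presheaf.germ V z hzV (c j l) :=
        (Scheme.Hom.germ_stalkMap_apply i W₃ z ⟨hz₂, hz₁⟩ (a l)).symm.trans h0
      obtain ⟨O, hzO, hO⟩ := exists_nhd_germ_eq' (U := i ⁻¹ᵁ W₃) ⟨hz₂, hz₁⟩ hzV _ _ h0'
      exact ⟨O, hzO, fun y hy h1 h2 => (Scheme.Hom.germ_stalkMap_apply i W₃ y h1 (a l)).trans (hO y hy h1 h2)⟩
    choose O hzO hO using hcl
    refine ⟨W₃ ⊓ W₄, inf_le_left.trans inf_le_right, ⟨⟨hz₂, hz₁⟩, hz₄⟩,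
      fun l => X'.presheaf.map (homOfLE (inf_le_left : W₃ ⊓ W₄ ≤ W₃)).op (a l), Finset.univ.inf O, ?_, ?_, ?_⟩
    · show z ∈ ((Finset.univ.inf O : X.Opens) : Set X)
      rw [TopologicalSpace.Opens.coe_finset_inf]
      simpa using fun l => hzO l
    · intro y hy hy₁
      have e : gV (fun l => X'.presheaf.map (homOfLE (inf_le_left : W₃ ⊓ W₄ ≤ W₃)).op (a l)) y hy = gV a y hy.1 :=
        funext fun l => TopCat.Presheaf.germ_res_apply _ _ _ _ _
      rw [e, ← hs, hW₄ y hy.2 hy.1 hy.1, map_zero]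
    · intro y hy h1 h2 l
      have hy' : y ∈ O l := (Finset.inf_le (Finset.mem_univ l) : Finset.univ.inf O ≤ O l) hy
      rw [← hO l y hy' h1.1 h2]
      exact congrArg _ (TopCat.Presheaf.germ_res_apply _ _ _ _ _)
  choose W hW₁ hzW a O hzO hWa hOa using hrel
  let O₀ : X.Opens := Finset.univ.inf O₁ ⊓ Finset.univ.inf O ⊓ V
  have hzO₀ : z ∈ O₀ := by
    refine ⟨⟨?_, ?_⟩, hzV⟩
    · show z ∈ ((Finset.univ.inf O₁ : X.Opens) : Set X)
      rw [TopologicalSpace.Opens.coe_finset_inf]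
      simpa using fun l => hzO₁ l
    · show z ∈ ((Finset.univ.inf O : X.Opens) : Set X)
      rw [TopologicalSpace.Opens.coe_finset_inf]
      simpa using fun l => hzO l
  obtain ⟨O', hO'⟩ := exists_open_preimage i O₀
  let W₀ : X'.Opens := W₁ ⊓ O' ⊓ Finset.univ.inf W
  have hzW₀ : i z ∈ W₀ := by
    refine ⟨⟨hz₁, hO'.ge hzO₀⟩, ?_⟩
    show i z ∈ ((Finset.univ.inf W : X'.Opens) : Set X')
    rw [TopologicalSpace.Opens.coe_finset_inf]
    simpa using fun l => hzW l
  have hle₁ : W₀ ≤ W₁ := inf_le_left.trans inf_le_left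
  have hleW : ∀ j, W₀ ≤ W j := fun j => inf_le_right.trans (Finset.inf_le (Finset.mem_univ j))
  let m₀ : Fin n → Γ(F, W₀) := fun l => F.presheaf.map (homOfLE hle₁).op (m l)
  let a₀ : Fin k → Fin n → Γ(X', W₀) := fun j l => X'.presheaf.map (homOfLE (hleW j)).op (a j l)
  refine ⟨W₀.toScheme, W₀.ι, inferInstance, ⟨i z, hzW₀⟩, rfl, ?_⟩
  have hgm : ∀ (y : X') (hy : y ∈ W₀), gL F m₀ y hy = gL F m y (hle₁ hy) := fun y hy => by
    refine congrArg (Fintype.linearCombination (X'.presheaf.stalk y)) (funext fun l => ?_)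
    exact TopCat.Presheaf.germ_res_apply _ _ _ _ _
  have hga : ∀ (y : X') (hy : y ∈ W₀) j, gV (a₀ j) y hy = gV (a j) y (hleW j hy) := fun y hy j =>
    funext fun l => TopCat.Presheaf.germ_res_apply _ _ _ _ _
  have hpm : ∀ (y : X) (hy : i y ∈ W₀) (v : Fin n → X'.presheaf.stalk (i y)) (hyV : y ∈ V),
      p y (gL F m (i y) (hle₁ hy) v) = gL G g y hyV (fun l => i.stalkMap y (v l)) := fun y hy v hyV => by
    have hy₀ : y ∈ O₀ := hO'.le hy.1.2
    rw [hpL, Fintype.linearCombination_apply]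
    exact Finset.sum_congr rfl fun l _ => by
      rw [hO₁ l y ((Finset.inf_le (Finset.mem_univ l) : Finset.univ.inf O₁ ≤ O₁ l) hy₀.1.1) _ hyV]
  have key : ∀ (y : X) (hy : i y ∈ W₀), Function.Surjective (gL F m (i y) (hle₁ hy)) ∧
      LinearMap.ker (gL F m (i y) (hle₁ hy)) ≤
        Submodule.span (X'.presheaf.stalk (i y)) (Set.range fun j => gV (a j) (i y) (hleW j hy)) := fun y hy => by
    have hy₀ : y ∈ O₀ := hO'.le hy.1.2
    have hyV : y ∈ V := hy₀.2
    obtain ⟨I, hIn, hJ⟩ := hnil y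
    letI : Algebra (T'.presheaf.stalk (q' (i y))) (X'.presheaf.stalk (i y)) := (q'.stalkMap (i y)).hom.toAlgebra
    letI := FlatMod.moduleStalkOver q' F (i y)
    haveI : IsScalarTower (T'.presheaf.stalk (q' (i y))) (X'.presheaf.stalk (i y)) (F.presheaf.stalk (i y)) :=
      .of_algebraMap_smul fun _ _ => rfl
    haveI : Module.Flat (T'.presheaf.stalk (q' (i y))) (F.presheaf.stalk (i y)) := hF (i y)
    have hsurj : Function.Surjective (gL F m (i y) (hle₁ hy)) := by
      refine surjective_of_surjective_mod (hJ ▸ hIn : IsNilpotent (J y)) _ fun v => ?_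
      obtain ⟨r, hr⟩ := (hV y hyV).1 (p y v)
      choose r' hr' using fun l => i.stalkMap_surjective y (r l)
      refine ⟨r', ((hp y).2 _).1 ?_⟩
      rw [map_sub, hpm y hy r' hyV, sub_eq_zero, ← hr]
      exact congrArg _ (funext fun l => (hr' l).symm)
    refine ⟨hsurj, ker_le_of_flat (R := T'.presheaf.stalk (q' (i y))) (A := X'.presheaf.stalk (i y)) I
      (show IsNilpotent (I.map (q'.stalkMap (i y)).hom) from hIn) (gL F m (i y) (hle₁ hy)) hsurj _
      (Submodule.span_le.2 ?_) fun v hv => ?_⟩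
    · rintro _ ⟨j, rfl⟩
      exact LinearMap.mem_ker.2 (hWa j (i y) (hleW j hy) _)
    · have h0 : p y (gL F m (i y) (hle₁ hy) v) = 0 :=
        ((hp y).2 _).2 (by rw [hJ]; exact hv)
      rw [hpm y hy v hyV] at h0
      obtain ⟨r, hr⟩ := (Submodule.mem_span_range_iff_exists_fun _).1 ((hV y hyV).2.le (LinearMap.mem_ker.2 h0))
      choose r' hr' using fun j => i.stalkMap_surjective y (r j)
      refine Submodule.mem_sup.2 ⟨∑ j, r' j • gV (a j) (i y) (hleW j hy),
        (Submodule.mem_span_range_iff_exists_fun _).2 ⟨r', rfl⟩, _, ?_, add_sub_cancel _ v⟩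
      set w := v - ∑ j, r' j • gV (a j) (i y) (hleW j hy) with hw
      have hw0 : ∀ l, w l ∈ I.map (q'.stalkMap (i y)).hom := fun l => by
        rw [← hJ]
        show w l ∈ RingHom.ker (i.stalkMap y).hom
        rw [RingHom.mem_ker, hw, Pi.sub_apply, Finset.sum_apply, map_sub, map_sum, sub_eq_zero]
        have h := congrFun hr l
        rw [Finset.sum_apply] at h
        refine h.symm.trans (Finset.sum_congr rfl fun j _ => ?_)
        rw [Pi.smul_apply, Pi.smul_apply, smul_eq_mul, smul_eq_mul, map_mul]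
        exact congr_arg₂ (· * ·) (hr' j).symm
          (hOa j y ((Finset.inf_le (Finset.mem_univ j) : Finset.univ.inf O ≤ O j) hy₀.1.2) (hleW j hy) hyV l).symm
      have hsum : w = ∑ l, w l • (Pi.single l 1 : Fin n → X'.presheaf.stalk (i y)) := pi_eq_sum_univ' w
      rw [hsum]
      exact Submodule.sum_mem _ fun l _ => Submodule.smul_mem_smul (hw0 l) Submodule.mem_top
  refine isFP_restrict_of_sections F m₀ a₀ ?_ ?_ ?_
  · intro y hy
    obtain ⟨y, rfl⟩ := i.surjective y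
    rw [hgm]
    exact (key y hy).1
  · intro y hy j
    rw [hgm, hga]
    exact hWa j y (hleW j hy) _
  · intro y hy
    obtain ⟨y, rfl⟩ := i.surjective y
    rw [hgm]
    simp only [hga]
    exact (key y hy).2

end Groth.Agent.ThickFPLib
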