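import Mathlib

/-!
# Relations of a flat module from relations modulo a nilpotent ideal
-/

set_option autoImplicit false

namespace Groth.Agent.ThickFPLib

open TensorProduct

variable {R A : Type*} [CommRing R] [CommRing A] [Algebra R A] {M : Type*} [AddCommGroup M] [Module A M]

theorem le_of_le_sup_smul {I : Ideal A} (hI : IsNilpotent I) {K P : Submodule A M} (h : K ≤ P ⊔ I • K) : K ≤ P := by
  obtain ⟨N, hN⟩ := hI
  have key : ∀ k : ℕ, K ≤ P ⊔ I ^ k • K := fun k => by
    induction k with
    | zero => simp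
    | succ k ih =>
      refine ih.trans (sup_le le_sup_left ?_)
      refine (Submodule.smul_mono le_rfl h).trans ?_
      rw [Submodule.smul_sup, pow_succ, Submodule.mul_smul]
      exact sup_le_sup_right Submodule.smul_le_right _
  have h0 := key N
  rwa [hN, Submodule.zero_eq_bot, Submodule.bot_smul, sup_bot_eq] at h0

theorem surjective_of_surjective_mod {J : Ideal A} (hJ : IsNilpotent J) {N : Type*} [AddCommGroup N] [Module A N]
    (L : N →ₗ[A] M) (h : ∀ z, ∃ c, z - L c ∈ (J • ⊤ : Submodule A M)) : Function.Surjective L := by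
  rw [← LinearMap.range_eq_top, eq_top_iff]
  refine le_of_le_sup_smul hJ fun z _ => ?_
  obtain ⟨c, hc⟩ := h z
  exact Submodule.mem_sup.2 ⟨L c, ⟨c, rfl⟩, _, hc, add_sub_cancel _ _⟩

variable [Module R M] [IsScalarTower R A M]

/-- The kernel of a presentation of a flat module meets the ideal in the ideal times the kernel. -/
theorem ker_inf_smul_le [Module.Flat R M] (I : Ideal R) {N : Type*} [AddCommGroup N] [Module A N] [Module R N]
    [IsScalarTower R A N] (L : N →ₗ[A] M) (hL : Function.Surjective L) :
    LinearMap.ker L ⊓ (I.map (algebraMap R A)) • ⊤ ≤ (I.map (algebraMap R A)) • LinearMap.ker L := by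
  rintro v ⟨hv, hv'⟩
  have hv'' : v ∈ (I • ⊤ : Submodule R N) := by
    have e := Ideal.smul_restrictScalars I (⊤ : Submodule A N)
    rw [Submodule.restrictScalars_top] at e
    exact e.le hv'
  obtain ⟨a, ha, hav⟩ := (Submodule.mem_ideal_smul_span_iff_exists_sum I (fun w : N => w) v).1
    (by rwa [Set.range_id', Submodule.span_univ])
  have hrel : ∑ w : a.support, a w • L w.1 = 0 := by
    rw [← show L v = 0 from hv, ← hav, Finsupp.sum, map_sum, ← Finset.sum_coe_sort a.support]
    exact Finset.sum_congr rfl fun w _ => (LinearMap.map_smul_of_tower L _ _).symm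
  obtain ⟨κ, b, y, hy, hb⟩ := Module.Flat.isTrivialRelation_of_sum_smul_eq_zero hrel
  choose w hw using fun j => hL (y j)
  have hkey : v = ∑ l : a.support, a l • (l.1 - ∑ j, b l j • w j) := by
    simp only [smul_sub, Finset.sum_sub_distrib, Finset.smul_sum, smul_smul]
    rw [Finset.sum_comm (s := (Finset.univ : Finset a.support)) (t := (Finset.univ : Finset (Fin κ)))]
    simp only at hb
    simp only [← Finset.sum_smul, hb, zero_smul, Finset.sum_const_zero, sub_zero]
    rw [← hav, Finsupp.sum, ← Finset.sum_coe_sort a.support]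
  rw [hkey]
  refine Submodule.sum_mem _ fun l _ => ?_
  rw [← algebraMap_smul A (a l)]
  refine Submodule.smul_mem_smul (Ideal.mem_map_of_mem _ (ha l.1)) ?_
  simp only at hy
  rw [LinearMap.mem_ker, map_sub, map_sum, sub_eq_zero, hy l]
  exact Finset.sum_congr rfl fun j _ => by rw [LinearMap.map_smul_of_tower, hw]

theorem ker_le_of_flat [Module.Flat R M] (I : Ideal R) (hJ : IsNilpotent (I.map (algebraMap R A)))
    {N : Type*} [AddCommGroup N] [Module A N] [Module R N] [IsScalarTower R A N] (L : N →ₗ[A] M)
    (hL : Function.Surjective L) (P : Submodule A N) (hP : P ≤ LinearMap.ker L)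
    (h : ∀ c, L c ∈ ((I.map (algebraMap R A)) • ⊤ : Submodule A M) → c ∈ P ⊔ (I.map (algebraMap R A)) • ⊤) :
    LinearMap.ker L ≤ P := by
  refine le_of_le_sup_smul hJ fun c hc => ?_
  obtain ⟨p, hp, q, hq, rfl⟩ := Submodule.mem_sup.1 (h c (by rw [LinearMap.mem_ker.1 hc]; exact zero_mem _))
  have hq' : L q = 0 := by
    have := LinearMap.mem_ker.1 hc
    rwa [map_add, LinearMap.mem_ker.1 (hP hp), zero_add] at this
  exact Submodule.add_mem_sup hp (ker_inf_smul_le I L hL ⟨hq', hq⟩)

omit [Module R M] [IsScalarTower R A M] in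
/-- The kernel of a base change along a surjection. -/
theorem ker_of_isBaseChange {B G : Type*} [CommRing B] [Algebra A B] [AddCommGroup G] [Module A G] [Module B G]
    [IsScalarTower A B G] (hs : Function.Surjective (algebraMap A B)) {f : M →ₗ[A] G} (h : IsBaseChange B f) :
    Function.Surjective f ∧ LinearMap.ker f = (RingHom.ker (algebraMap A B)) • ⊤ := by
  constructor
  · intro z
    obtain ⟨w, rfl⟩ := h.equiv.surjective z
    induction w with
    | zero => exact ⟨0, by simp⟩
    | add p q hp hq =>
      obtain ⟨a, ha⟩ := hp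
      obtain ⟨b, hb⟩ := hq
      exact ⟨a + b, by rw [map_add, map_add, ha, hb]⟩
    | tmul b m =>
      obtain ⟨a, rfl⟩ := hs b
      exact ⟨a • m, by rw [map_smul, IsBaseChange.equiv_tmul, algebraMap_smul]⟩
  refine le_antisymm (fun m hm => ?_) (Submodule.smul_le.2 fun r hr m _ => ?_)
  · let e : B ≃ₐ[A] A ⧸ RingHom.ker (algebraMap A B) :=
      (Ideal.quotientKerAlgEquivOfSurjective (f := Algebra.ofId A B) hs).symm
    have h0 : (1 : B) ⊗ₜ[A] m = 0 := h.equiv.injective (by
      rw [IsBaseChange.equiv_tmul, one_smul, LinearMap.mem_ker.1 hm, map_zero])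
    have h1 := congrArg (TensorProduct.map e.toLinearMap (LinearMap.id (R := A) (M := M))) h0
    rw [TensorProduct.map_tmul, map_zero, LinearMap.id_apply, AlgEquiv.toLinearMap_apply, map_one] at h1
    have h2 := congrArg (TensorProduct.quotTensorEquivQuotSMul M (RingHom.ker (algebraMap A B))) h1
    rw [map_zero] at h2
    rw [← Submodule.Quotient.mk_eq_zero, ← TensorProduct.quotTensorEquivQuotSMul_mk_one_tmul]
    exact h2
  · rw [LinearMap.mem_ker, map_smul, ← algebraMap_smul B, RingHom.mem_ker.1 hr, zero_smul]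

end Groth.Agent.ThickFPLib
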