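import Groth.Agent.ThickFPLib.Alg
import Groth.Agent.DegDevLib.Frame
import Groth.Agent.DCohLib.FTLocal
import Groth.Agent.DCohLib.FlatPerf
import Groth.Agent.DCohLib.StalkRestrictFree
import Groth.Agent.PullbackMod.SkyStalk
import Groth.Agent.PCThickLib.Rel
import Groth.Agent.PullbackMod.OpenLocus
import Groth.Prelude.Def_FlatMod2

/-!
# Finite presentation of a flat sheaf of modules along a thickening
-/

set_option autoImplicit false
set_option backward.isDefEq.respectTransparency false
set_option backward.isDefEq.respectTransparency.types false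
set_option linter.style.haveILetI false

universe u

open CategoryTheory CategoryTheory.Limits AlgebraicGeometry TopologicalSpace Opposite
open Groth.Agent.PullbackMod Groth.Agent.DCohLib Groth.Agent.QCohLib Groth.Agent.FlatLocus

noncomputable section

namespace Groth.Agent.ThickFPLib

variable {X : Scheme.{u}}

/-- The linear map given by the germs of a tuple of sections. -/
abbrev gL (M : X.Modules) {W : X.Opens} {n : ℕ} (m : Fin n → Γ(M, W)) (y : X) (hy : y ∈ W) :
    (Fin n → X.presheaf.stalk y) →ₗ[X.presheaf.stalk y] M.presheaf.stalk y :=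
  Fintype.linearCombination (X.presheaf.stalk y) fun l => M.presheaf.germ W y hy (m l)

/-- The germs of a tuple of functions. -/
abbrev gV {W : X.Opens} {n : ℕ} (a : Fin n → Γ(X, W)) (y : X) (hy : y ∈ W) : Fin n → X.presheaf.stalk y :=
  fun l => X.presheaf.germ W y hy (a l)

theorem gL_gV (M : X.Modules) {W : X.Opens} {n : ℕ} (m : Fin n → Γ(M, W)) (a : Fin n → Γ(X, W)) (y : X) (hy : y ∈ W) :
    gL M m y hy (gV a y hy) = M.presheaf.germ W y hy (∑ l, a l • m l) := by
  rw [Fintype.linearCombination_apply, map_sum]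
  exact Finset.sum_congr rfl fun l _ => (ParaFLib.germ_smul' y hy (a l) (m l)).symm

/-- A module with a finite presentation on every stalk by global sections. -/
theorem isFP_of_global (M : X.Modules) {n k : ℕ} (σ : Fin n → Γ(M, ⊤)) (α : Fin k → Fin n → Γ(X, ⊤))
    (hs : ∀ y : X, Function.Surjective (gL M σ y trivial))
    (hr : ∀ (y : X) j, gL M σ y trivial (gV (α j) y trivial) = 0)
    (hk : ∀ y : X, LinearMap.ker (gL M σ y trivial) ≤
      Submodule.span (X.presheaf.stalk y) (Set.range fun j => gV (α j) y trivial)) : CohB1.IsFP M := by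
  classical
  let e : Fin n → Γ(FlatMod.freeMod X n, ⊤) := fun l =>
    (Sigma.ι (fun _ : Fin n => Coh.structureModule X) l).app ⊤ (1 : Γ(X, ⊤))
  have he : ∀ y l, (FlatMod.freeMod X n).presheaf.germ ⊤ y trivial (e l) = DegDevLib.stdGerm n y l := fun y l =>
    (stalkLin_germ _ (U := ⊤) y trivial _).symm
  let ψ := DegDevLib.descS σ
  let β : FlatMod.freeMod X k ⟶ FlatMod.freeMod X n := DegDevLib.descS fun j => ∑ l, α j l • e l
  have hψ : ∀ (y : X) (v : Fin n → X.presheaf.stalk y),
      stalkLin ψ y (Fintype.linearCombination (X.presheaf.stalk y) (DegDevLib.stdGerm n y) v) =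
        gL M σ y trivial v := fun y v => by
    rw [Fintype.linearCombination_apply, map_sum, Fintype.linearCombination_apply]
    exact Finset.sum_congr rfl fun l _ => by rw [map_smul, DegDevLib.descS_stdGerm]
  have hβ : ∀ (y : X) (j : Fin k), stalkLin β y (DegDevLib.stdGerm k y j) =
      Fintype.linearCombination (X.presheaf.stalk y) (DegDevLib.stdGerm n y) (gV (α j) y trivial) := fun y j => by
    rw [DegDevLib.descS_stdGerm, ← gL_gV]
    refine congrArg (fun s => Fintype.linearCombination (X.presheaf.stalk y) s _) (funext fun l => he y l)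
  have hβψ : β ≫ ψ = 0 := (eq_zero_iff_stalk _).2 fun y => LinearMap.ext fun z => by
    obtain ⟨v, rfl⟩ := (DegDevLib.stdGerm_bijective k y).2 z
    rw [stalkLin_comp, LinearMap.comp_apply, LinearMap.zero_apply, Fintype.linearCombination_apply, map_sum, map_sum]
    exact Finset.sum_eq_zero fun j _ => by rw [map_smul, map_smul, hβ, hψ, hr, smul_zero]
  let θ := cokernel.desc β ψ hβψ
  have hθ : ∀ (y : X) (z : (FlatMod.freeMod X n).presheaf.stalk y),
      stalkLin θ y (stalkLin (cokernel.π β) y z) = stalkLin ψ y z := fun y z => by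
    rw [← LinearMap.comp_apply, ← stalkLin_comp, cokernel.π_desc]
  haveI : IsIso θ := (isIso_iff_stalk θ).2 fun y => by
    refine ⟨(injective_iff_map_eq_zero _).2 fun z hz => ?_, fun z => ?_⟩
    · obtain ⟨w, rfl⟩ := (epi_iff_stalk (cokernel.π β)).1 inferInstance y z
      obtain ⟨v, rfl⟩ := (DegDevLib.stdGerm_bijective n y).2 w
      rw [hθ, hψ] at hz
      obtain ⟨c, hc⟩ := (Submodule.mem_span_range_iff_exists_fun _).1 (hk y hz)
      have hv : Fintype.linearCombination (X.presheaf.stalk y) (DegDevLib.stdGerm n y) v =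
          stalkLin β y (Fintype.linearCombination (X.presheaf.stalk y) (DegDevLib.stdGerm k y) c) := by
        rw [← hc, map_sum, Fintype.linearCombination_apply _ _ c, map_sum]
        exact Finset.sum_congr rfl fun j _ => by rw [map_smul, map_smul, hβ]
      rw [hv, ← LinearMap.comp_apply, ← stalkLin_comp, cokernel.condition,
        (eq_zero_iff_stalk (0 : FlatMod.freeMod X k ⟶ cokernel β)).1 rfl y, LinearMap.zero_apply]
    · obtain ⟨v, rfl⟩ := hs y z
      exact ⟨_, (hθ y _).trans (hψ y v)⟩
  obtain ⟨hqn, hfn⟩ := isQCoh_and_isFP_of_isFinLocFree _ (isFinLocFree_freeMod (Y := X) n)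
  obtain ⟨hqk, hfk⟩ := isQCoh_and_isFP_of_isFinLocFree _ (isFinLocFree_freeMod (Y := X) k)
  haveI := hfk
  exact isFP_iso (asIso θ)
    (isFP_cokernel β hqk hqn (inferInstanceAs (SheafOfModules.IsFiniteType (R := X.ringCatSheaf) _)) hfn)

/-- The same over an open. -/
theorem isFP_restrict_of_sections (F : X.Modules) {W : X.Opens} {n k : ℕ} (m : Fin n → Γ(F, W))
    (a : Fin k → Fin n → Γ(X, W))
    (hs : ∀ (y : X) (hy : y ∈ W), Function.Surjective (gL F m y hy))
    (hr : ∀ (y : X) (hy : y ∈ W) j, gL F m y hy (gV (a j) y hy) = 0)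
    (hk : ∀ (y : X) (hy : y ∈ W), LinearMap.ker (gL F m y hy) ≤
      Submodule.span (X.presheaf.stalk y) (Set.range fun j => gV (a j) y hy)) :
    CohB1.IsFP ((Scheme.Modules.restrictFunctor W.ι).obj F) := by
  classical
  have hW : W.ι ''ᵁ ⊤ = W := W.ι_image_top
  let σ : Fin n → Γ((Scheme.Modules.restrictFunctor W.ι).obj F, ⊤) := fun l =>
    F.presheaf.map (homOfLE hW.le).op (m l)
  let α : Fin k → Fin n → Γ(W.toScheme, ⊤) := fun j l => X.presheaf.map (homOfLE hW.le).op (a j l)
  let E : ∀ y : W.toScheme, ((Scheme.Modules.restrictFunctor W.ι).obj F).presheaf.stalk y ≃+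
      F.presheaf.stalk (W.ι y) := fun y =>
    ((Scheme.Modules.restrictStalkNatIso W.ι y).app F).addCommGroupIsoToAddEquiv
  let σR : ∀ y : W.toScheme, X.presheaf.stalk (W.ι y) ≃+* W.toScheme.presheaf.stalk y := fun y =>
    (asIso (W.ι.stalkMap y)).commRingCatIsoToRingEquiv
  have hEs : ∀ y c z, E y (c • z) = (σR y).symm c • E y z := fun y => restrictStalk_smul W.ι F y
  have hEσ : ∀ y l, E y (((Scheme.Modules.restrictFunctor W.ι).obj F).presheaf.germ ⊤ y trivial (σ l)) =
      F.presheaf.germ W (W.ι y) y.2 (m l) := fun y l => by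
    refine (ConcreteCategory.congr_hom (Scheme.Modules.germ_restrictStalkNatIso_hom_app W.ι y F
      (U := ⊤) trivial) (σ l)).trans ?_
    exact F.presheaf.germ_res_apply (homOfLE hW.le) _ _ _
  have hα : ∀ y j l, W.toScheme.presheaf.germ ⊤ y trivial (α j l) = σR y (X.presheaf.germ W (W.ι y) y.2 (a j l)) := by
    intro y j l
    show _ = W.ι.stalkMap y (X.presheaf.germ W (W.ι y) y.2 (a j l))
    rw [Scheme.Hom.germ_stalkMap_apply, Scheme.Opens.ι_app]
    refine Eq.trans ?_ (W.toScheme.presheaf.germ_res_apply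
      (homOfLE (W.ι_preimage_self.ge : (⊤ : W.toScheme.Opens) ≤ W.ι ⁻¹ᵁ W)) y trivial _)
    refine congrArg _ ?_
    show X.presheaf.map _ (a j l) = X.presheaf.map _ (X.presheaf.map _ (a j l))
    rw [← ConcreteCategory.comp_apply, ← Functor.map_comp]
    rfl
  have hgL : ∀ y (v : Fin n → X.presheaf.stalk (W.ι y)),
      E y (gL _ σ y trivial fun l => σR y (v l)) = gL F m (W.ι y) y.2 v := fun y v => by
    rw [Fintype.linearCombination_apply, map_sum, Fintype.linearCombination_apply]
    exact Finset.sum_congr rfl fun l _ => by rw [hEs, hEσ, RingEquiv.symm_apply_apply]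
  have hgV : ∀ y j, gV (α j) y trivial = fun l => σR y (gV (a j) (W.ι y) y.2 l) := fun y j =>
    funext fun l => hα y j l
  refine isFP_of_global _ σ α (fun y z => ?_) (fun y j => ?_) (fun y c hc => ?_)
  · obtain ⟨v, hv⟩ := hs (W.ι y) y.2 (E y z)
    exact ⟨fun l => σR y (v l), (E y).injective ((hgL y v).trans hv)⟩
  · apply (E y).injective
    rw [hgV, hgL, hr, map_zero]
  · have hc' : (fun l => (σR y).symm (c l)) ∈ LinearMap.ker (gL F m (W.ι y) y.2) := by
      rw [LinearMap.mem_ker, ← hgL]
      simp only [RingEquiv.apply_symm_apply]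
      rw [LinearMap.mem_ker.1 hc, map_zero]
    obtain ⟨r, hr'⟩ := (Submodule.mem_span_range_iff_exists_fun _).1 (hk (W.ι y) y.2 hc')
    refine (Submodule.mem_span_range_iff_exists_fun _).2 ⟨fun j => σR y (r j), funext fun l => ?_⟩
    have h := congrArg (σR y) (congrFun hr' l)
    rw [RingEquiv.apply_symm_apply] at h
    rw [← h]
    simp only [Finset.sum_apply, Pi.smul_apply, smul_eq_mul, map_sum, map_mul]
    exact Finset.sum_congr rfl fun j _ => by rw [← hα y j l]

/-- A finitely presented module is presented near every point by sections, uniformly on stalks. -/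
theorem exists_presentation (G : X.Modules) (hG : CohB1.IsFP G) (z : X) :
    ∃ (V : X.Opens) (_ : z ∈ V) (n k : ℕ) (g : Fin n → Γ(G, V)) (c : Fin k → Fin n → Γ(X, V)),
      ∀ (y : X) (hy : y ∈ V), Function.Surjective (gL G g y hy) ∧
        LinearMap.ker (gL G g y hy) = Submodule.span (X.presheaf.stalk y) (Set.range fun j => gV (c j) y hy) := by
  classical
  haveI := hG
  haveI hQ : Coh.IsQCoh G := inferInstanceAs (SheafOfModules.IsQuasicoherent (R := X.ringCatSheaf) G)
  obtain ⟨_, ⟨V, hV, rfl⟩, hzV, -⟩ := X.isBasis_affineOpens.exists_subset_of_mem_open (Set.mem_univ z) isOpen_univ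
  haveI := QCohLib.finitePresentation_sections G hG hV
  obtain ⟨n, f, hf⟩ := Module.Finite.exists_fin' Γ(X, V) Γ(G, V)
  obtain ⟨k, c, hc⟩ := Submodule.fg_iff_exists_fin_generating_family.1 (Module.FinitePresentation.fg_ker f hf)
  let g : Fin n → Γ(G, V) := fun l => f fun l' => if l = l' then 1 else 0
  have hfg : ∀ r : Fin n → Γ(X, V), f r = ∑ l, r l • g l := fun r => by
    conv_lhs => rw [pi_eq_sum_univ r]
    rw [map_sum]
    exact Finset.sum_congr rfl fun l _ => map_smul f _ _
  refine ⟨V, hzV, n, k, g, c, fun y hy => ?_⟩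
  letI := Module.compHom (G.presheaf.stalk y) (X.presheaf.germ V y hy).hom
  letI : Algebra Γ(X, V) (X.presheaf.stalk y) := TopCat.Presheaf.algebra_section_stalk X.presheaf ⟨y, hy⟩
  haveI := hV.isLocalization_stalk ⟨y, hy⟩
  haveI hloc := isLocalizedModule_germL G hV y hy
  set P := (hV.primeIdealOf ⟨y, hy⟩).asIdeal.primeCompl with hP
  have hu : ∀ s : P, IsUnit (X.presheaf.germ V y hy (s : Γ(X, V))) := fun s =>
    IsLocalization.map_units (X.presheaf.stalk y) s
  constructor
  · intro w
    obtain ⟨⟨v, s⟩, hvs⟩ := IsLocalizedModule.surj P (germL G V y hy) w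
    obtain ⟨r, rfl⟩ := hf v
    obtain ⟨u, hu'⟩ := hu s
    refine ⟨(↑u⁻¹ : X.presheaf.stalk y) • gV r y hy, ?_⟩
    rw [map_smul, gL_gV, ← hfg]
    have h : (u : X.presheaf.stalk y) • w = G.presheaf.germ V y hy (f r) := by
      rw [hu']
      exact hvs
    rw [← h, smul_smul, Units.inv_mul, one_smul]
  · refine le_antisymm (fun v hv => ?_) (Submodule.span_le.2 ?_)
    · obtain ⟨s, hs⟩ := IsLocalization.exist_integer_multiples_of_finite P v
      choose r hr using hs
      have hr' : gV r y hy = X.presheaf.germ V y hy (s : Γ(X, V)) • v := funext fun l => (hr l).trans (Algebra.smul_def _ _)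
      have h0 : germL G V y hy (f r) = 0 := by
        show G.presheaf.germ V y hy (f r) = 0
        rw [hfg, ← gL_gV, hr', map_smul, LinearMap.mem_ker.1 hv, smul_zero]
      obtain ⟨t, ht⟩ := (IsLocalizedModule.eq_zero_iff P (germL G V y hy)).1 h0
      have hmem : (t : Γ(X, V)) • r ∈ Submodule.span Γ(X, V) (Set.range c) := by
        rw [hc, LinearMap.mem_ker, map_smul]
        exact ht
      obtain ⟨q, hq⟩ := (Submodule.mem_span_range_iff_exists_fun _).1 hmem
      have h1 : X.presheaf.germ V y hy (t : Γ(X, V)) • gV r y hy ∈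
          Submodule.span (X.presheaf.stalk y) (Set.range fun j => gV (c j) y hy) := by
        refine (Submodule.mem_span_range_iff_exists_fun _).2 ⟨fun j => X.presheaf.germ V y hy (q j), funext fun l => ?_⟩
        have h := congrArg (X.presheaf.germ V y hy) (congrFun hq l)
        simp only [Finset.sum_apply, Pi.smul_apply, smul_eq_mul, map_sum, map_mul] at h ⊢
        exact h
      rw [hr', smul_smul] at h1
      exact (Submodule.smul_mem_iff_of_isUnit _ ((hu t).mul (hu s))).1 h1
    · rintro _ ⟨j, rfl⟩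
      rw [SetLike.mem_coe, LinearMap.mem_ker, gL_gV, ← hfg]
      have : f (c j) = 0 := LinearMap.mem_ker.1 (hc.le (Submodule.subset_span ⟨j, rfl⟩))
      rw [this, map_zero]

end Groth.Agent.ThickFPLib
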